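import Cfsg.Agent.H497.S8.SolvTwo
import Cfsg.Agent.H517.S8.McLDeg
import Cfsg.Agent.H242.S8.Twin
import Cfsg.Agent.H934.OutB
import Cfsg.Agent.Schreier.McLaughlin
import Cfsg.Agent.S2073

/-!
# S4908, SOLV for the McLaughlin group (helper345)

* `index_le` : `|Out McL| ≤ 2`; `deg` : the degree sets of the groups with socle `McL`;
* `solv` : no solvable group has the degree set of `McL` or `Aut McL`.
-/

set_option autoImplicit false

namespace Cfsg.Agent.H345.S8.McL

open Cfsg
open Cfsg.Agent.H517.S8.McLDeg (degs mem_iff finite_of)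

universe u v

/-- `|Out McL| ≤ 2` -/
theorem index_le {X : Type v} [Group X] (h : Spor.IsoMcL X) : (MulAut.conj : X →* MulAut X).range.index ≤ 2 := by
  obtain ⟨e⟩ := h
  have h1 : Nat.card (Cfsg.Out X) = 2 := by
    rw [H934.OutB.card_out_congr e]
    exact S2073.result
  have h2 : (MulAut.conj : X →* MulAut X).range.index = Nat.card (Cfsg.Out X) := rfl
  omega

theorem simple {X : Type v} [Group X] (h : Spor.IsoMcL X) : IsSimpleGroup X := by
  obtain ⟨e⟩ := h
  have := Cfsg.Agent.Schreier.McLaughlin.isSimple_mcl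
  exact e.isSimpleGroup

theorem not_comm {X : Type v} [Group X] [Finite X] (h : Spor.IsoMcL X) : ¬ IsMulCommutative X := by
  intro hc
  have h1 : (22 : ℕ) ∈ charDegrees X := (mem_iff h 22).2 (by decide)
  have h2 := H424.DegTools.ito h1 (⊤ : Subgroup X) (fun a _ b _ => mul_comm' a b)
  rw [Subgroup.index_top] at h2
  omega

/-- the degrees of the almost simple groups with socle `McL` -/
theorem deg {X : Type v} [Group X] (h : Spor.IsoMcL X) {c : ℕ} {D : Set ℕ} (hD : H704.S8.Deg c X D) :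
    (∀ n ∈ degs, n ∈ D ∨ 2 * n ∈ D) ∧ (∀ e ∈ D, e ∈ degs ∨ ∃ n ∈ degs, n ≠ 1 ∧ e = 2 * n) := by
  have := finite_of h
  obtain ⟨h1, h2⟩ := H242.S8.deg_two' (simple h) (not_comm h) (index_le h) hD
  refine ⟨fun n hn => h1 n ((mem_iff h n).2 hn), fun e he => ?_⟩
  rcases h2 e he with h3 | ⟨n, hn, hn1, rfl⟩
  · exact Or.inl ((mem_iff h e).1 h3)
  · exact Or.inr ⟨n, (mem_iff h n).1 hn, hn1, rfl⟩

/-- a superset of the degrees -/
def Adm : List ℕ := degs ++ degs.tail.map fun n => 2 * n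

/-- one of the two is a degree -/
def K : List (List ℕ) := degs.map fun n => [n, 2 * n]

theorem chk : H497.S8.chk2 20790 [2, 3, 5, 7, 11] Adm K = true := by decide +kernel

theorem primes : ∀ p ∈ [2, 3, 5, 7, 11], Nat.Prime p := by
  intro p hp
  simp only [List.mem_cons, List.not_mem_nil, or_false] at hp
  rcases hp with rfl | rfl | rfl | rfl | rfl <;> norm_num

theorem two_mem : ∀ n ∈ degs, n ≠ 1 → 2 * n ∈ Adm := by decide

theorem one_sub : ∀ n ∈ degs, n ∈ Adm := by decide

/-- **SOLV for `McL`.** -/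
theorem solv {X : Type v} [Group X] (h : Spor.IsoMcL X) {c : ℕ} {D : Set ℕ} (hD : H704.S8.Deg c X D) :
    H704.S8.Solv.{u} D := by
  obtain ⟨h1, h2⟩ := deg h hD
  refine H497.S8.solv_of_chk2 20790 [2, 3, 5, 7, 11] Adm K primes (fun d hd => ?_) (fun l hl => ?_) chk
  · rcases h2 d hd with h3 | ⟨n, hn, hn1, rfl⟩
    · exact one_sub d h3
    · exact two_mem n hn hn1
  · obtain ⟨n, hn, rfl⟩ := List.mem_map.1 hl
    rcases h1 n hn with h3 | h3
    · exact ⟨n, by simp, h3⟩
    · exact ⟨2 * n, by simp, h3⟩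

end Cfsg.Agent.H345.S8.McL
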