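import Cfsg.Agent.H196.S8.Core
import Cfsg.Agent.H345.S8.McLSolv
import Cfsg.Agent.H672.SporIM.RankRows
import Cfsg.Agent.H765.DS.HSMcL
import Cfsg.Agent.H603.FD.Spor
import Cfsg.Agent.H678.DG.Tits
import Cfsg.Agent.H707.RowTits
import Cfsg.Agent.NotCT.Orders
import Cfsg.Agent.H417.RecogMathieu

/-!
# S4908: the row SOC1 of `McL` (helper345), after the row of `Fi₂₃` (helper196)

The possible degrees of an almost simple group with socle `McL` are 33 numbers; no prime powers, no degree `m - 1` of an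
alternating group, and for each other sporadic group a prime of its order or a degree is excluded.
-/

set_option autoImplicit false
set_option maxRecDepth 100000

namespace Cfsg.Agent.H345.S8.McL

open Cfsg Subgroup
open Cfsg.Agent.H691.AN (AlmostSimple)
open Cfsg.Agent.H196.S8

universe u v

/-- all possible degrees divide `2 |McL|` -/
theorem adm_dvd : ∀ d ∈ Adm, d ∣ 1796256000 := by decide +kernel

theorem adm_le : ∀ d ∈ Adm, d ≤ 20790 := by decide +kernel

theorem not_adm : ∀ x ∈ [6, 7, 8, 9, 10, 11, 12, 20, 16, 32, 21, 42, 36, 72, 77, 154, 78, 156], x ∉ Adm := by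
  decide +kernel

theorem pp_chk : ∀ r ∈ [2, 3, 5, 7, 11], ∀ v ∈ List.range 15, 1 ≤ v → r ^ v ∉ Adm := by
  decide +kernel

theorem prime_of {r : ℕ} (hr : r.Prime) (h : r ∣ 1796256000) : r ∈ [2, 3, 5, 7, 11] := by
  have h1 := prime_mem hr [(2, 8), (3, 6), (5, 3), (7, 1), (11, 1)]
    (fun x hx => by
      simp only [List.mem_cons, List.not_mem_nil, or_false] at hx
      rcases hx with rfl | rfl | rfl | rfl | rfl <;> norm_num)
    (by rw [show H653.Sieve.facProd [(2, 8), (3, 6), (5, 3), (7, 1), (11, 1)] = 1796256000 by decide +kernel]; exact h)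
  simpa using h1

theorem no_pp {r v : ℕ} (hr : r.Prime) (hv : 0 < v) (h1 : r ^ v ∈ Adm) : False := by
  have h2 := adm_dvd _ h1
  have h3 := prime_of hr ((dvd_pow_self r hv.ne').trans h2)
  have h4 : v < 15 := by
    by_contra hcon
    have h5 : 2 ^ 15 ≤ r ^ v := (Nat.pow_le_pow_right (by norm_num) (by omega)).trans (Nat.pow_le_pow_left hr.two_le v)
    have h6 := adm_le _ h1
    omega
  exact pp_chk r h3 v (List.mem_range.2 h4) hv h1

section

variable {A : Type u} [Group A] [Finite A] {S : Subgroup A} (hA : AlmostSimple A S)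
  (hD : ∀ d ∈ charDegrees A, d ∈ Adm)

include hA hD

theorem pr {p : ℕ} (hp : p.Prime) (hd : p ∣ Nat.card S) : p ∣ 1796256000 := by
  obtain ⟨d, h1, h2⟩ := prime_deg hA hp hd
  exact h2.trans (adm_dvd d (hD d h1))

theorem two (hout : Nat.card (Out S) ≤ 2) {a : ℕ} (ha : a ∈ charDegrees S) (h1 : a ∉ Adm) (h2 : 2 * a ∉ Adm) :
    False := by
  rcases two_deg hA hout ha with h | h
  · exact h1 (hD _ h)
  · exact h2 (hD _ h)

theorem lie {r : ℕ} (hr : r.Prime) (h : IsLieTypeChar r S) : False := by
  obtain ⟨v, hv, h1⟩ := lie_pp hA hr h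
  exact no_pp hr hv (hD _ h1)

theorem alt {m : ℕ} (hm : 5 ≤ m) (e : S ≃* alternatingGroup (Fin m)) : False := by
  rcases Nat.lt_or_ge m 7 with h7 | h7
  · have : m = 5 ∨ m = 6 := by omega
    rcases this with rfl | rfl
    · exact lie hA hD (by norm_num) (lie_five e)
    · exact lie hA hD (r := 3) (by norm_num) (H679.isLie_six ⟨e⟩)
  · have h18 : m ≤ 12 := by
      by_contra hcon
      have h1 := pr hA hD (p := 13) (by norm_num)
        (by rw [Nat.card_congr e.toEquiv]; exact prime_dvd_alt (by norm_num) (by norm_num) hm (by omega))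
      norm_num at h1
    refine not_adm (m - 1) ?_ (hD _ (alt_deg hA h7 e))
    interval_cases m <;> decide

theorem tits (h : Lie.IsoTits S) : False := by
  have hout := H489.card_out_tits h
  obtain ⟨e⟩ := h
  obtain ⟨f⟩ := H707.RowTits.equiv
  exact two hA hD hout (mem_of_equiv (e.trans f) H678.DG.Tits.deg_78) (not_adm 78 (by decide)) (not_adm 156 (by decide))

theorem spor (h : IsSporadicGroup S) : Spor.IsoMcL S := by
  have hout := H489.card_out_sporadic h
  have key : ∀ {a : ℕ}, a ∈ charDegrees S → a ∉ Adm → 2 * a ∉ Adm → Spor.IsoMcL S :=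
    fun ha h1 h2 => (two hA hD hout ha h1 h2).elim
  have kp : ∀ {p N : ℕ}, p.Prime → Nat.card S = N → p ∣ N → ¬ p ∣ 1796256000 → Spor.IsoMcL S :=
    fun hp h1 h2 h3 => (h3 (pr hA hD hp (by rw [h1]; exact h2))).elim
  rcases h with h | h | h | h | h | h | h | h | h | h | h | h | h | h | h | h | h | h | h | h | h | h | h | h | h | h
  · obtain ⟨h1, h2, -⟩ := H603.FD.Spor.m11 (UGT.End.MEleven.isM11 h)
    exact key h1 (not_adm 10 (by decide)) (not_adm 20 (by decide))
  · obtain ⟨h1, h2, -⟩ := H603.FD.Spor.m12 (H603.FD.Spor.isM12 h)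
    exact key h1 (not_adm 16 (by decide)) (not_adm 32 (by decide))
  · obtain ⟨h1, h2, -⟩ := H603.FD.Spor.m22 (H417.RecogMathieu.isM22 h)
    exact key h1 (not_adm 21 (by decide)) (not_adm 42 (by decide))
  · exact kp (p := 23) (by norm_num) (NotCT.Orders.m23 h) (by norm_num) (by norm_num)
  · exact kp (p := 23) (by norm_num) (NotCT.Orders.m24 h) (by norm_num) (by norm_num)
  · exact kp (p := 19) (by norm_num) (NotCT.Orders.j1 h) (by norm_num) (by norm_num)
  · exact key (H672.SporIM.j2 h).2 (not_adm 36 (by decide)) (not_adm 72 (by decide))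
  · exact kp (p := 19) (by norm_num) (NotCT.Orders.j3 h) (by norm_num) (by norm_num)
  · exact kp (p := 43) (by norm_num) (NotCT.Orders.j4 h) (by norm_num) (by norm_num)
  · exact kp (p := 23) (by norm_num) (NotCT.Orders.co1 h) (by norm_num) (by norm_num)
  · exact kp (p := 23) (by norm_num) (NotCT.Orders.co2 h) (by norm_num) (by norm_num)
  · exact kp (p := 23) (by norm_num) (NotCT.Orders.co3 h) (by norm_num) (by norm_num)
  · exact h
  · exact key (mem_of_irr (H765.DS.HSMcL.hs_77 h)) (not_adm 77 (by decide)) (not_adm 154 (by decide))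
  · exact kp (p := 13) (by norm_num) (NotCT.Orders.suz h) (by norm_num) (by norm_num)
  · exact kp (p := 17) (by norm_num) (NotCT.Orders.he h) (by norm_num) (by norm_num)
  · exact kp (p := 29) (by norm_num) (NotCT.Orders.ru h) (by norm_num) (by norm_num)
  · exact kp (p := 31) (by norm_num) (NotCT.Orders.on h) (by norm_num) (by norm_num)
  · exact kp (p := 67) (by norm_num) (NotCT.Orders.ly h) (by norm_num) (by norm_num)
  · exact kp (p := 13) (by norm_num) (NotCT.Orders.fi22 h) (by norm_num) (by norm_num)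
  · exact kp (p := 23) (by norm_num) (NotCT.Orders.fi23 h) (by norm_num) (by norm_num)
  · exact kp (p := 29) (by norm_num) (NotCT.Orders.fi24 h) (by norm_num) (by norm_num)
  · exact kp (p := 19) (by norm_num) (NotCT.Orders.hn h) (by norm_num) (by norm_num)
  · exact kp (p := 31) (by norm_num) (NotCT.Orders.th h) (by norm_num) (by norm_num)
  · exact kp (p := 47) (by norm_num) (NotCT.Orders.b h) (by norm_num) (by norm_num)
  · exact kp (p := 71) (by norm_num) (NotCT.Orders.m h) (by norm_num) (by norm_num)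

theorem main : Spor.IsoMcL S := by
  have := hA.simple
  rcases exists_split S hA.nonab with ⟨l, hl, ⟨e⟩⟩ | ⟨r, hr, h⟩ | h | h
  · exact (alt hA hD hl e).elim
  · exact (lie hA hD hr h).elim
  · exact (tits hA hD h).elim
  · exact spor hA hD h

end

/-- **SOC1 for `McL`** -/
theorem soc1 {X : Type v} [Group X] (hX : Spor.IsoMcL X) {c : ℕ} {D : Set ℕ} (hD : H704.S8.Deg c X D) :
    H704.S8.Soc1.{u} D X := by
  intro A _ _ S hA h
  obtain ⟨-, h2⟩ := deg hX hD
  obtain ⟨e⟩ := main hA fun d hd => by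
    rcases h2 d (h hd) with h3 | ⟨n, hn, hn1, rfl⟩
    · exact one_sub d h3
    · exact two_mem n hn hn1
  obtain ⟨f⟩ := hX
  exact ⟨e.trans f.symm⟩

end Cfsg.Agent.H345.S8.McL
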